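import Cfsg.Agent.HN.AutHS
import Cfsg.Agent.H587.S8.Out
import Cfsg.Agent.H424.DegTools
import Cfsg.Agent.H55.OutGen
import Cfsg.Agent.S2072
import Cfsg.Agent.H704.S8.Defs3

/-!
# S4908, `HS`, OUT: `cd(HS) ≠ cd(Aut HS)` (helper442)

`Q` is the Higman–Sims group on the `100` vertices of the graph, `w ∈ Q` of order `11`.

* `exists_pow` : an automorphism of the graph commuting with `w` is a power of `w`;
* `not_subset_Q` : `cd(Q) ⊄ cd(Aut Q)` (exceptional characters at `11`, helper587);
* `out` : the row `OUT` for `HS`.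
-/

set_option autoImplicit false
set_option maxRecDepth 100000

namespace Cfsg.Agent.H442.S8.HSOut

open Cfsg.Agent.SporadicA.PermTab Cfsg.Agent.HN.Pres Cfsg.Agent.HN.HS100 Cfsg.Agent.HN.SrgHS Equiv
open Cfsg.Agent.HN.AutBound Cfsg.Agent.HN.AutHS
open Cfsg

universe u v

def tw : ℕ := 0x34178238620b40b4218360320780604609a174198500041103081f0480800a04808a0402601c0a40141a85801a0e03183e0ac02c0702605804c1402b04a0282105708201c1b83102416c0b816022018258400600602500807e1441381d09e00c1482a0aa1643005300206c1080f044170270320a817c1e03b0920f40203402a0e41d02e05e08c04800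
def twi : ℕ := 0x821802881901c1882b01205c17c0d0440680fc0d80f03011c1105403e0442b8490520940584c0c2160258520ba0d4198280461000500d01801403042062170228080aa040180270060102f03b0700700e8390420f01b84f00404c0a84e0a01681004802c18c2d82605a0b00384d0740bc1584a0280f42185907c0d8008240640a82300903c14c0b800

theorem cw : chkInv 100 tw twi = true := by decide +kernel

/-- an element of order eleven -/
def w : Perm (Fin 100) := mkPerm tw twi cw

theorem w_mem : w ∈ Q := by
  obtain ⟨g, hg, h⟩ : InG Q tw := word_of (L := [s3, s3, s3, s4])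
    (mem2 (InG.mono (ps_le Q 0) in3) (InG.mono (ps_le Q 0) in4)) (by simp) (by decide +kernel)
  have e : w = g := Equiv.ext fun i => Fin.ext (h i).symm
  rw [e]
  exact hg

/-- the first orbit on the neighbours of `0` -/
def aF : Fin 11 → Fin 100 := ![2, 35, 63, 86, 93, 67, 13, 60, 38, 24, 83]
/-- the second orbit on the neighbours of `0` -/
def bF : Fin 11 → Fin 100 := ![6, 57, 40, 64, 62, 11, 73, 76, 72, 28, 42]

theorem w_a : ∀ j : Fin 11, w (aF j) = aF (j + 1) := by decide +kernel
theorem w_b : ∀ j : Fin 11, w (bF j) = bF (j + 1) := by decide +kernel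
theorem w_fix : ∀ i : Fin 100, w i = i → i = 0 := by decide +kernel
theorem w_zero : w 0 = 0 := by decide +kernel
theorem nbr : ∀ i : Fin 100, ad 0 i = 1 → (∃ j, i = aF j) ∨ ∃ j, i = bF j := by decide +kernel
theorem ad_a : ∀ j : Fin 11, ad 0 (aF j) = 1 := by decide +kernel
theorem ad_b : ∀ j : Fin 11, ad 0 (bF j) = 1 := by decide +kernel
theorem a_ne_b : ∀ j k : Fin 11, aF j ≠ bF k := by decide +kernel

theorem w_eleven : w ^ 11 = 1 := by
  have h : ∀ i : Fin 100, w (w (w (w (w (w (w (w (w (w (w i)))))))))) = i := by decide +kernel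
  refine Equiv.ext fun i => ?_
  simp only [pow_succ, pow_zero, one_mul, Perm.mul_apply, Perm.one_apply]
  exact h i

theorem w_ne : w ≠ 1 := by
  intro h
  have h1 := w_a 0
  rw [h] at h1
  exact absurd h1 (by decide +kernel)

theorem order_w : orderOf w = 11 := by
  have : Fact (Nat.Prime 11) := ⟨by norm_num⟩
  exact orderOf_eq_prime w_eleven w_ne

/-! ### the finite checks -/

theorem chkA : ∀ l : Fin 11, l ≠ 0 → ∀ u : Fin 100, ¬ ((∀ j : Fin 11, ad u (aF j) = ad 1 (aF j)) ∧
    ∀ j : Fin 11, ad u (bF (j + l)) = ad 1 (bF j)) := by decide +kernel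

theorem chkB : ∀ l : Fin 11, ∀ u : Fin 100, ¬ ((∀ j : Fin 11, ad u (bF j) = ad 1 (aF j)) ∧
    ∀ j : Fin 11, ad u (aF (j + l)) = ad 1 (bF j)) := by decide +kernel

theorem chkI : ∀ u v : Fin 100, u = v ∨ ¬ (ad 0 u = 0 ∧ ad 0 v = 0 ∧ u ≠ 0 ∧ v ≠ 0 ∧
    (∀ j : Fin 11, ad u (aF j) = ad v (aF j)) ∧ ∀ j : Fin 11, ad u (bF j) = ad v (bF j)) := by decide +kernel

/-! ### the centralizer of `w` in the automorphism group of the graph -/

section cent

variable {p : Perm (Fin 100)}

theorem comm_pow (hw : p * w = w * p) (k : ℕ) (i : Fin 100) : p ((w ^ k) i) = (w ^ k) (p i) := by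
  have h1 : p * w ^ k = w ^ k * p := (Commute.pow_right (show Commute p w from hw) k).eq
  exact congrArg (fun r : Perm (Fin 100) => r i) h1

/-- `k` modulo eleven -/
def c (k : ℕ) : Fin 11 := Fin.ofNat 11 k

theorem c_zero : c 0 = 0 := rfl

theorem c_succ (k : ℕ) : c (k + 1) = c k + 1 := by
  apply Fin.ext
  show (k + 1) % 11 = (k % 11 + 1) % 11
  omega

theorem val_cast (j : Fin 11) : c (j : ℕ) = j := by
  apply Fin.ext
  show (j : ℕ) % 11 = j
  exact Nat.mod_eq_of_lt j.2

theorem pow_a (k : ℕ) (j : Fin 11) : (w ^ k) (aF j) = aF (j + c k) := by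
  induction k with
  | zero => rw [pow_zero, Perm.one_apply, c_zero, add_zero]
  | succ k ih => rw [pow_succ', Perm.mul_apply, ih, w_a, c_succ, add_assoc]

theorem pow_b (k : ℕ) (j : Fin 11) : (w ^ k) (bF j) = bF (j + c k) := by
  induction k with
  | zero => rw [pow_zero, Perm.one_apply, c_zero, add_zero]
  | succ k ih => rw [pow_succ', Perm.mul_apply, ih, w_b, c_succ, add_assoc]

theorem p_zero (hw : p * w = w * p) : p 0 = 0 := by
  apply w_fix
  have h1 := congrArg (fun r : Perm (Fin 100) => r 0) hw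
  simp only [Perm.mul_apply, w_zero] at h1
  exact h1.symm

/-- the images of an orbit -/
theorem img_a (hw : p * w = w * p) {f : Fin 11 → Fin 100} (hf : ∀ (k : ℕ) (j : Fin 11), (w ^ k) (f j) = f (j + c k))
    {k : Fin 11} (h : p (aF 0) = f k) (j : Fin 11) : p (aF j) = f (j + k) := by
  have h1 : aF j = (w ^ (j : ℕ)) (aF 0) := by rw [pow_a, zero_add, val_cast]
  rw [h1, comm_pow hw, h, hf, val_cast, add_comm]

theorem img_b (hw : p * w = w * p) {f : Fin 11 → Fin 100} (hf : ∀ (k : ℕ) (j : Fin 11), (w ^ k) (f j) = f (j + c k))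
    {k : Fin 11} (h : p (bF 0) = f k) (j : Fin 11) : p (bF j) = f (j + k) := by
  have h1 : bF j = (w ^ (j : ℕ)) (bF 0) := by rw [pow_b, zero_add, val_cast]
  rw [h1, comm_pow hw, h, hf, val_cast, add_comm]

theorem p_nbr (hp : p ∈ autG 100 adjA) (hw : p * w = w * p) {i : Fin 100} (hi : ad 0 i = 1) :
    (∃ j, p i = aF j) ∨ ∃ j, p i = bF j := by
  apply nbr
  have h1 := ad_map hp 0 i
  rw [p_zero hw] at h1
  rw [h1, hi]

/-- fixing the neighbours of `0` -/
theorem eq_one_of_fix (hp : p ∈ autG 100 adjA) (h0 : p 0 = 0) (ha : ∀ j, p (aF j) = aF j) (hb : ∀ j, p (bF j) = bF j) :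
    p = 1 := by
  refine Equiv.ext fun v => ?_
  rw [Perm.one_apply]
  by_cases hv0 : v = 0
  · rw [hv0, h0]
  rcases ad_zero_or_one 0 v with h1 | h1
  · have h2 : ad 0 (p v) = 0 := by
      have h3 := ad_map hp 0 v
      rw [h0] at h3
      rw [h3, h1]
    rcases chkI (p v) v with h3 | h3
    · exact h3
    · exfalso
      refine h3 ⟨h2, h1, fun h4 => hv0 ?_, hv0, fun j => ?_, fun j => ?_⟩
      · exact p.injective (h4.trans h0.symm)
      · have h5 := ad_map hp v (aF j)
        rwa [ha] at h5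
      · have h5 := ad_map hp v (bF j)
        rwa [hb] at h5
  · rcases nbr v h1 with ⟨j, rfl⟩ | ⟨j, rfl⟩
    · exact ha j
    · exact hb j

theorem eq_one_of (hp : p ∈ autG 100 adjA) (hw : p * w = w * p) (h : p (aF 0) = aF 0) : p = 1 := by
  have ha : ∀ j, p (aF j) = aF j := fun j => by
    have := img_a hw (f := aF) pow_a h j
    rwa [add_zero] at this
  rcases p_nbr hp hw (ad_b 0) with ⟨j, hj⟩ | ⟨l, hl⟩
  · exfalso
    rw [← ha j] at hj
    exact a_ne_b j 0 (p.injective hj).symm
  · have hb := img_b hw (f := bF) pow_b hl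
    by_cases hl0 : l = 0
    · refine eq_one_of_fix hp (p_zero hw) ha fun j => ?_
      rw [hb, hl0, add_zero]
    · exfalso
      refine chkA l hl0 (p 1) ⟨fun j => ?_, fun j => ?_⟩
      · have h5 := ad_map hp 1 (aF j)
        rwa [ha] at h5
      · have h5 := ad_map hp 1 (bF j)
        rwa [hb] at h5

theorem false_of (hp : p ∈ autG 100 adjA) (hw : p * w = w * p) (h : p (aF 0) = bF 0) : False := by
  have ha : ∀ j, p (aF j) = bF j := fun j => by
    have := img_a hw (f := bF) pow_b h j
    rwa [add_zero] at this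
  rcases p_nbr hp hw (ad_b 0) with ⟨l, hl⟩ | ⟨j, hj⟩
  · have hb := img_b hw (f := aF) pow_a hl
    refine chkB l (p 1) ⟨fun j => ?_, fun j => ?_⟩
    · have h5 := ad_map hp 1 (aF j)
      rwa [ha] at h5
    · have h5 := ad_map hp 1 (bF j)
      rwa [hb] at h5
  · rw [← ha j] at hj
    exact a_ne_b j 0 (p.injective hj).symm

/-- **The centralizer of `w` in the automorphism group of the graph.** -/
theorem exists_pow (hp : p ∈ autG 100 adjA) (hw : p * w = w * p) : ∃ k : ℕ, p = w ^ k := by
  have hwG : w ∈ autG 100 adjA := Q_le w_mem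
  have key : ∀ k : ℕ, ((w ^ k)⁻¹ * p) * w = w * ((w ^ k)⁻¹ * p) := fun k => by
    have h1 : (w ^ k)⁻¹ * w = w * (w ^ k)⁻¹ := ((Commute.refl w).pow_left k).inv_left.eq
    rw [mul_assoc, hw, ← mul_assoc, h1, mul_assoc]
  have hm : ∀ k : ℕ, (w ^ k)⁻¹ * p ∈ autG 100 adjA := fun k =>
    (autG 100 adjA).mul_mem ((autG 100 adjA).inv_mem ((autG 100 adjA).pow_mem hwG k)) hp
  rcases p_nbr hp hw (ad_a 0) with ⟨k, hk⟩ | ⟨k, hk⟩
  · refine ⟨k, ?_⟩
    have h1 := eq_one_of (hm k) (key k) (by
      rw [Perm.mul_apply, hk, Perm.inv_eq_iff_eq, pow_a, zero_add, val_cast])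
    exact (inv_mul_eq_one.1 h1).symm
  · exfalso
    exact false_of (hm k) (key k) (by
      rw [Perm.mul_apply, hk, Perm.inv_eq_iff_eq, pow_b, zero_add, val_cast])

end cent

/-! ### the groups -/

/-- `w` in `Q` -/
def wQ : Q := ⟨w, w_mem⟩

theorem order_wQ : orderOf wQ = 11 := by
  rw [wQ, Subgroup.orderOf_mk, order_w]

theorem center_triv {g : Q} (h : ∀ x : Q, g * x = x * g) : g = 1 := by
  apply Subtype.ext
  exact eq_one_of_comm fun q hq => congrArg Subtype.val (h ⟨q, hq⟩)

theorem cent_wQ : Subgroup.centralizer ({wQ} : Set Q) = Subgroup.zpowers wQ := by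
  apply le_antisymm
  · intro x hx
    have h1 := Subgroup.mem_centralizer_singleton_iff.1 hx
    obtain ⟨k, hk⟩ := exists_pow (Q_le x.2) (p := (x : Perm (Fin 100))) (congrArg Subtype.val h1)
    refine ⟨k, ?_⟩
    apply Subtype.ext
    show ((wQ ^ (k : ℤ) : Q) : Perm (Fin 100)) = x
    rw [zpow_natCast, Subgroup.coe_pow]
    exact hk.symm
  · rw [Subgroup.zpowers_le]
    exact Subgroup.mem_centralizer_singleton_iff.2 rfl

theorem card_cent : Nat.card (Subgroup.centralizer ({wQ} : Set Q)) = 11 := by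
  rw [cent_wQ, Nat.card_zpowers, order_wQ]

theorem conj_injective : Function.Injective (MulAut.conj : Q →* MulAut Q) := by
  rw [injective_iff_map_eq_one]
  intro g hg
  apply center_triv
  intro x
  have h1 : (MulAut.conj g) x = x := by rw [hg]; rfl
  rw [MulAut.conj_apply] at h1
  exact mul_inv_eq_iff_eq_mul.1 h1

theorem cent_conj : Subgroup.centralizer ({MulAut.conj wQ} : Set (MulAut Q)) = Subgroup.zpowers (MulAut.conj wQ) := by
  apply le_antisymm
  · intro β hβ
    have h1 := Subgroup.mem_centralizer_singleton_iff.1 hβ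
    have h2 : β wQ = wQ := by
      apply conj_injective
      have h3 : MulAut.conj (β wQ) = β * MulAut.conj wQ * β⁻¹ := by
        ext x
        simp [MulAut.conj_apply, MulAut.mul_apply]
      rw [h3, h1, mul_assoc, mul_inv_cancel, mul_one]
    obtain ⟨p, hp, h⟩ := exists_perm β
    have h4 : p * w = w * p := by
      have h5 := h wQ
      rw [h2] at h5
      have h6 : w = p * w * p⁻¹ := h5
      exact (mul_inv_eq_iff_eq_mul.1 h6.symm)
    obtain ⟨k, rfl⟩ := exists_pow hp h4
    refine ⟨k, ?_⟩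
    show MulAut.conj wQ ^ (k : ℤ) = β
    rw [zpow_natCast, ← map_pow]
    refine MulEquiv.ext fun x => ?_
    apply Subtype.ext
    rw [h x, MulAut.conj_apply]
    rfl
  · rw [Subgroup.zpowers_le]
    exact Subgroup.mem_centralizer_singleton_iff.2 rfl

theorem order_conj : orderOf (MulAut.conj wQ) = 11 := by
  rw [orderOf_injective MulAut.conj conj_injective, order_wQ]

theorem card_cent_conj : Nat.card (Subgroup.centralizer ({MulAut.conj wQ} : Set (MulAut Q))) = 11 := by
  rw [cent_conj, Nat.card_zpowers, order_conj]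

theorem iso_Q : Spor.IsoHS Q := nonempty_Q.1

theorem index_two {X : Type v} [Group X] (h : Spor.IsoHS X) : (MulAut.conj : X →* MulAut X).range.index = 2 := by
  obtain ⟨e⟩ := h
  rw [← H55.OutGen.card_out_eq_index, H55.OutGen.card_out_congr e]
  exact S2072.result

theorem not_subset_Q : ¬ charDegrees Q ⊆ charDegrees (MulAut Q) := by
  have : Fact (Nat.Prime 11) := ⟨by norm_num⟩
  refine H587.S8.not_subset (q := 11) (by norm_num) order_wQ card_cent ?_ ?_ order_conj card_cent_conj ?_
  · rw [card_Q]; norm_num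
  · rw [card_Q]
  · rw [← (MulAut.conj : Q →* MulAut Q).range.card_mul_index, index_two iso_Q, mul_comm]
    congr 1
    exact (Nat.card_congr (MonoidHom.ofInjective conj_injective).toEquiv).symm

theorem not_subset {X : Type v} [Group X] (h : Spor.IsoHS X) : ¬ charDegrees X ⊆ charDegrees (MulAut X) := by
  obtain ⟨e⟩ := h
  obtain ⟨f⟩ := iso_Q
  have e' : X ≃* Q := e.trans f.symm
  rw [H424.DegTools.charDegrees_congr e', H424.DegTools.charDegrees_congr (MulAut.congr e')]
  exact not_subset_Q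

/-- **OUT for `HS`** -/
theorem ne_aut {X : Type v} [Group X] (h : Spor.IsoHS X) : charDegrees X ≠ charDegrees (MulAut X) :=
  fun h1 => not_subset h h1.le

/-- **the row OUT of `HS`** -/
theorem out {X : Type v} [Group X] (h : Spor.IsoHS X) : Cfsg.Agent.H704.S8.OutRow3 2 X :=
  ⟨(index_two h).le, fun _ => ne_aut h⟩

end Cfsg.Agent.H442.S8.HSOut
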